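import Mathlib

/-! # S3439 (driver helper6): a solvable group isospectral to `PSp₄(3)` — shared definitions.

`K` a field of characteristic 3 (in the end: 81 elements).  `N7 K` is the group of 6 × 6 unitriangular matrices
`[[1, r, p, z], [0, I₂, D, c], [0, 0, I₂, w], [0, 0, 0, 1]]` (blocks 1+2+2+1) with `r = (a^27, a^3)`, `D = diag(a, a)`,
`w = (b^3, -b^27)`, `p, c ∈ K²`, `z ∈ K` arbitrary: a group of order `|K|^7`, exponent 9, with
`g^3 = (0, .., 0, a^28 b^3 - a^4 b^27)`.  The maps `T ξ i` (`ξ^5 = 1`): `x ↦ ξ^w x^(3^i)` on the coordinates (weights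
`1, 1, 28, 4, 4, 28, 31`) form a group `Q ≅ F₂₀` of automorphisms, and `N7 K ⋊ Q` has the spectrum
`{1, 2, 3, 4, 5, 6, 9, 12}` of `PSp₄(3)`. -/

set_option autoImplicit false

namespace Cfsg.Agent.S3439P

/-- the underlying set: seven coordinates -/
@[ext]
structure N7 (K : Type*) where
  a : K
  b : K
  p1 : K
  p2 : K
  c1 : K
  c2 : K
  z : K

variable {K : Type*} [Field K] [CharP K 3]

/-- `x ↦ x^(3^n)` as a ring homomorphism -/
noncomputable abbrev fr (K : Type*) [Field K] [CharP K 3] (n : ℕ) : K →+* K :=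
  haveI : Fact (Nat.Prime 3) := ⟨Nat.prime_three⟩
  iterateFrobenius K 3 n

theorem fr_apply (n : ℕ) (x : K) : fr K n x = x ^ 3 ^ n := by
  haveI : Fact (Nat.Prime 3) := ⟨Nat.prime_three⟩
  exact iterateFrobenius_def 3 n x

namespace N7

noncomputable instance : Mul (N7 K) where
  mul g h :=
    { a := g.a + h.a
      b := g.b + h.b
      p1 := g.p1 + h.p1 + fr K 3 g.a * h.a
      p2 := g.p2 + h.p2 + fr K 1 g.a * h.a
      c1 := g.c1 + h.c1 + g.a * fr K 1 h.b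
      c2 := g.c2 + h.c2 - g.a * fr K 3 h.b
      z := g.z + h.z + fr K 3 g.a * h.c1 + fr K 1 g.a * h.c2 + g.p1 * fr K 1 h.b - g.p2 * fr K 3 h.b }

instance : One (N7 K) where
  one := ⟨0, 0, 0, 0, 0, 0, 0⟩

noncomputable instance : Inv (N7 K) where
  inv g :=
    { a := -g.a
      b := -g.b
      p1 := -g.p1 + fr K 3 g.a * g.a
      p2 := -g.p2 + fr K 1 g.a * g.a
      c1 := -g.c1 + g.a * fr K 1 g.b
      c2 := -g.c2 - g.a * fr K 3 g.b
      z := -g.z + fr K 3 g.a * g.c1 + fr K 1 g.a * g.c2 + g.p1 * fr K 1 g.b - g.p2 * fr K 3 g.b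
        - fr K 3 g.a * g.a * fr K 1 g.b + fr K 1 g.a * g.a * fr K 3 g.b }

theorem mul_def (g h : N7 K) : g * h =
    { a := g.a + h.a
      b := g.b + h.b
      p1 := g.p1 + h.p1 + fr K 3 g.a * h.a
      p2 := g.p2 + h.p2 + fr K 1 g.a * h.a
      c1 := g.c1 + h.c1 + g.a * fr K 1 h.b
      c2 := g.c2 + h.c2 - g.a * fr K 3 h.b
      z := g.z + h.z + fr K 3 g.a * h.c1 + fr K 1 g.a * h.c2 + g.p1 * fr K 1 h.b - g.p2 * fr K 3 h.b } := rfl

theorem one_def : (1 : N7 K) = ⟨0, 0, 0, 0, 0, 0, 0⟩ := rfl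

@[simp] theorem mul_a (g h : N7 K) : (g * h).a = g.a + h.a := rfl
@[simp] theorem mul_b (g h : N7 K) : (g * h).b = g.b + h.b := rfl
@[simp] theorem mul_p1 (g h : N7 K) : (g * h).p1 = g.p1 + h.p1 + fr K 3 g.a * h.a := rfl
@[simp] theorem mul_p2 (g h : N7 K) : (g * h).p2 = g.p2 + h.p2 + fr K 1 g.a * h.a := rfl
@[simp] theorem mul_c1 (g h : N7 K) : (g * h).c1 = g.c1 + h.c1 + g.a * fr K 1 h.b := rfl
@[simp] theorem mul_c2 (g h : N7 K) : (g * h).c2 = g.c2 + h.c2 - g.a * fr K 3 h.b := rfl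
@[simp] theorem mul_z (g h : N7 K) : (g * h).z =
    g.z + h.z + fr K 3 g.a * h.c1 + fr K 1 g.a * h.c2 + g.p1 * fr K 1 h.b - g.p2 * fr K 3 h.b := rfl
@[simp] theorem one_a : (1 : N7 K).a = 0 := rfl
@[simp] theorem one_b : (1 : N7 K).b = 0 := rfl
@[simp] theorem one_p1 : (1 : N7 K).p1 = 0 := rfl
@[simp] theorem one_p2 : (1 : N7 K).p2 = 0 := rfl
@[simp] theorem one_c1 : (1 : N7 K).c1 = 0 := rfl
@[simp] theorem one_c2 : (1 : N7 K).c2 = 0 := rfl
@[simp] theorem one_z : (1 : N7 K).z = 0 := rfl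

noncomputable instance : Group (N7 K) where
  mul_assoc g h k := by
    ext <;> simp only [mul_a, mul_b, mul_p1, mul_p2, mul_c1, mul_c2, mul_z, map_add] <;> ring
  one_mul g := by
    ext <;> simp only [mul_a, mul_b, mul_p1, mul_p2, mul_c1, mul_c2, mul_z, one_a, one_b, one_p1, one_p2,
      one_c1, one_c2, one_z, map_zero] <;> ring
  mul_one g := by
    ext <;> simp only [mul_a, mul_b, mul_p1, mul_p2, mul_c1, mul_c2, mul_z, one_a, one_b, one_p1, one_p2,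
      one_c1, one_c2, one_z, map_zero] <;> ring
  inv_mul_cancel g := by
    ext <;> simp only [mul_a, mul_b, mul_p1, mul_p2, mul_c1, mul_c2, mul_z, one_a, one_b, one_p1, one_p2,
      one_c1, one_c2, one_z, Inv.inv, map_neg] <;> ring

@[simp] theorem inv_a (g : N7 K) : (g⁻¹).a = -g.a := rfl
@[simp] theorem inv_b (g : N7 K) : (g⁻¹).b = -g.b := rfl

/-- the semilinear torus maps: `x ↦ ξ^w x^(3^i)` on the coordinates, weights `1, 1, 28, 4, 4, 28, 31` -/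
noncomputable def Tm (ξ : K) (i : ℕ) : N7 K →* N7 K where
  toFun g := ⟨ξ * fr K i g.a, ξ * fr K i g.b, ξ ^ 28 * fr K i g.p1, ξ ^ 4 * fr K i g.p2,
    ξ ^ 4 * fr K i g.c1, ξ ^ 28 * fr K i g.c2, ξ ^ 31 * fr K i g.z⟩
  map_one' := by
    ext <;> simp only [one_a, one_b, one_p1, one_p2, one_c1, one_c2, one_z, map_zero, mul_zero]
  map_mul' g h := by
    ext <;> simp only [mul_a, mul_b, mul_p1, mul_p2, mul_c1, mul_c2, mul_z, map_add, map_sub, map_mul,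
      fr_apply] <;> ring

@[simp] theorem Tm_a (ξ : K) (i : ℕ) (g : N7 K) : (Tm ξ i g).a = ξ * fr K i g.a := rfl
@[simp] theorem Tm_b (ξ : K) (i : ℕ) (g : N7 K) : (Tm ξ i g).b = ξ * fr K i g.b := rfl
@[simp] theorem Tm_p1 (ξ : K) (i : ℕ) (g : N7 K) : (Tm ξ i g).p1 = ξ ^ 28 * fr K i g.p1 := rfl
@[simp] theorem Tm_p2 (ξ : K) (i : ℕ) (g : N7 K) : (Tm ξ i g).p2 = ξ ^ 4 * fr K i g.p2 := rfl
@[simp] theorem Tm_c1 (ξ : K) (i : ℕ) (g : N7 K) : (Tm ξ i g).c1 = ξ ^ 4 * fr K i g.c1 := rfl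
@[simp] theorem Tm_c2 (ξ : K) (i : ℕ) (g : N7 K) : (Tm ξ i g).c2 = ξ ^ 28 * fr K i g.c2 := rfl
@[simp] theorem Tm_z (ξ : K) (i : ℕ) (g : N7 K) : (Tm ξ i g).z = ξ ^ 31 * fr K i g.z := rfl

/-- composition law -/
theorem Tm_comp (ξ ξ' : K) (i i' : ℕ) (g : N7 K) :
    Tm ξ i (Tm ξ' i' g) = Tm (ξ * fr K i ξ') (i + i') g := by
  ext <;> simp only [Tm_a, Tm_b, Tm_p1, Tm_p2, Tm_c1, Tm_c2, Tm_z, map_mul, map_pow, fr_apply] <;> ring

theorem Tm_one_zero (g : N7 K) : Tm (1 : K) 0 g = g := by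
  ext <;> simp [fr_apply]

theorem fr_add_four [Fintype K] (hK : Fintype.card K = 81) (i : ℕ) (x : K) :
    fr K (i + 4) x = fr K i x := by
  rw [fr_apply, fr_apply, pow_add, pow_mul]
  have : (3 : ℕ) ^ 4 = Fintype.card K := by rw [hK]; norm_num
  rw [this, FiniteField.pow_card]

theorem fr_four_mul [Fintype K] (hK : Fintype.card K = 81) (i : ℕ) (x : K) :
    fr K (4 * i) x = x := by
  induction i with
  | zero => rw [fr_apply]; simp
  | succ i ih => rw [show 4 * (i + 1) = 4 * i + 4 by ring, fr_add_four hK, ih]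

theorem Tm_add_four [Fintype K] (hK : Fintype.card K = 81) (ξ : K) (i : ℕ) (g : N7 K) :
    Tm ξ (i + 4) g = Tm ξ i g := by
  ext <;> simp only [Tm_a, Tm_b, Tm_p1, Tm_p2, Tm_c1, Tm_c2, Tm_z, fr_add_four hK]

theorem Tm_one_four_mul [Fintype K] (hK : Fintype.card K = 81) (i : ℕ) (g : N7 K) :
    Tm (1 : K) (4 * i) g = g := by
  ext <;> simp only [Tm_a, Tm_b, Tm_p1, Tm_p2, Tm_c1, Tm_c2, Tm_z, fr_four_mul hK, one_pow, one_mul]

end N7

open N7 in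
/-- the group `⟨d, σ⟩ ≅ F₂₀` of automorphisms of `N7 K` -/
def Q [Fintype K] (hK : Fintype.card K = 81) : Subgroup (MulAut (N7 K)) where
  carrier := {τ | ∃ (ξ : K) (i : ℕ), ξ ^ 5 = 1 ∧ ∀ g, τ g = Tm ξ i g}
  one_mem' := ⟨1, 0, one_pow 5, fun g => (Tm_one_zero g).symm⟩
  mul_mem' := by
    rintro τ τ' ⟨ξ, i, hξ, h⟩ ⟨ξ', i', hξ', h'⟩
    refine ⟨ξ * fr K i ξ', i + i', ?_, fun g => ?_⟩
    · rw [mul_pow, ← map_pow, hξ, hξ', map_one, mul_one]
    · rw [MulAut.mul_apply, h, h', Tm_comp]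
  inv_mem' := by
    rintro τ ⟨ξ, i, hξ, h⟩
    have hξ0 : ξ ≠ 0 := by
      intro h0; rw [h0] at hξ; norm_num at hξ
    have hfr0 : fr K (3 * i) ξ ≠ 0 := by
      rw [fr_apply]; exact pow_ne_zero _ hξ0
    refine ⟨(fr K (3 * i) ξ)⁻¹, 3 * i, ?_, fun g => ?_⟩
    · rw [inv_pow, ← map_pow, hξ, map_one, inv_one]
    · have h1 := Tm_comp (fr K (3 * i) ξ)⁻¹ ξ (3 * i) i (τ⁻¹ g)
      rw [← h, MulAut.apply_inv_self, inv_mul_cancel₀ hfr0, show 3 * i + i = 4 * i by ring,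
        Tm_one_four_mul hK] at h1
      exact h1.symm

/-- the solvable group isospectral to `PSp₄(3)` -/
abbrev H [Fintype K] (hK : Fintype.card K = 81) : Type _ :=
  N7 K ⋊[(Q hK).subtype] (Q hK)

end Cfsg.Agent.S3439P
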