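import Mathlib
import Cfsg.Prelude.Def_Classical
import Cfsg.Agent.Helper6.S3439.Defs
import Cfsg.Agent.Helper19.S3439A2
import Cfsg.Agent.Helper16.S3439EX
import Cfsg.Agent.Helper16.S3439QSOLV
import Cfsg.Agent.Helper22.S3439A1
import Cfsg.Agent.Helper11.S3439A3
import Cfsg.Agent.Helper24.S3439CUBE
import Cfsg.Agent.Helper24.S3439FIX2
import Cfsg.Agent.Helper26.S3439FIN
import Cfsg.Agent.Helper26.S3439FIX5
import Cfsg.Agent.Helper20.S3439PSP12
import Cfsg.Agent.Helper20.S3439PSP5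
import Cfsg.Agent.Helper20.S3439PSP9
import Cfsg.Agent.Helper5.S3439PSPUP
import Cfsg.Agent.Helper22.S3439SPECLEM

/-! S3439 assembly (driver helper6). -/

set_option autoImplicit false

namespace Cfsg.Agent.S3439P

open N7

variable {K : Type*} [Field K] [CharP K 3] [Fintype K]

namespace ASM

theorem fr_comp (i j : ℕ) (x : K) : fr K i (fr K j x) = fr K (j + i) x := by
  rw [fr_apply, fr_apply, fr_apply, ← pow_mul, ← pow_add]

theorem Tm_mod_four (hK : Fintype.card K = 81) (ξ : K) (i : ℕ) (g : N7 K) :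
    Tm ξ i g = Tm ξ (i % 4) g := by
  induction i using Nat.strong_induction_on with
  | _ i ih =>
    by_cases hi : i < 4
    · rw [Nat.mod_eq_of_lt hi]
    · have h4 : 4 ≤ i := by omega
      have e : i = (i - 4) + 4 := by omega
      rw [e, Tm_add_four hK, ih (i - 4) (by omega), Nat.add_mod_right]

/-- the automorphism `Tm ξ i` -/
noncomputable def Te (hK : Fintype.card K = 81) (ξ : K) (hξ : ξ ^ 5 = 1) (i : ℕ) : MulAut (N7 K) :=
  { toFun := Tm ξ i
    invFun := Tm (fr K (3 * i) ξ)⁻¹ (3 * i)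
    left_inv := fun g => by
      have hξ0 : ξ ≠ 0 := by
        intro h0; rw [h0] at hξ; norm_num at hξ
      have hfr0 : fr K (3 * i) ξ ≠ 0 := by
        rw [fr_apply]; exact pow_ne_zero _ hξ0
      rw [Tm_comp, inv_mul_cancel₀ hfr0, show 3 * i + i = 4 * i by ring, Tm_one_four_mul hK]
    right_inv := fun g => by
      have hξ0 : ξ ≠ 0 := by
        intro h0; rw [h0] at hξ; norm_num at hξ
      rw [Tm_comp, map_inv₀, fr_comp, show 3 * i + i = 4 * i by ring, fr_four_mul hK,
        mul_inv_cancel₀ hξ0, show i + 3 * i = 4 * i by ring, Tm_one_four_mul hK]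
    map_mul' := map_mul _ }

theorem Te_apply (hK : Fintype.card K = 81) (ξ : K) (hξ : ξ ^ 5 = 1) (i : ℕ) (g : N7 K) :
    Te hK ξ hξ i g = Tm ξ i g := rfl

theorem Te_mem (hK : Fintype.card K = 81) (ξ : K) (hξ : ξ ^ 5 = 1) (i : ℕ) :
    Te hK ξ hξ i ∈ Q hK := ⟨ξ, i, hξ, fun _ => rfl⟩

/-- `Tm ξ 2` is an involution -/
theorem Tm_two_two (hK : Fintype.card K = 81) (ξ : K) (hξ : ξ ^ 5 = 1) (g : N7 K) :
    Tm ξ 2 (Tm ξ 2 g) = g := by
  rw [Tm_comp, fr_apply]
  have : ξ * ξ ^ 3 ^ 2 = 1 := by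
    have : ξ * ξ ^ 3 ^ 2 = (ξ ^ 5) ^ 2 := by ring
    rw [this, hξ, one_pow]
  rw [this]
  exact Tm_one_four_mul hK 1 g

theorem Tm_zero_five (ξ : K) (hξ : ξ ^ 5 = 1) (g : N7 K) :
    Tm ξ 0 (Tm ξ 0 (Tm ξ 0 (Tm ξ 0 (Tm ξ 0 g)))) = g := by
  have h28 : (ξ ^ 28) ^ 5 = 1 := by rw [← pow_mul, mul_comm, pow_mul, hξ, one_pow]
  have h4 : (ξ ^ 4) ^ 5 = 1 := by rw [← pow_mul, mul_comm, pow_mul, hξ, one_pow]
  have h31 : (ξ ^ 31) ^ 5 = 1 := by rw [← pow_mul, mul_comm, pow_mul, hξ, one_pow]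
  ext <;> simp only [Tm_a, Tm_b, Tm_p1, Tm_p2, Tm_c1, Tm_c2, Tm_z, fr_apply, pow_zero, pow_one]
  · linear_combination g.a * hξ
  · linear_combination g.b * hξ
  · linear_combination g.p1 * h28
  · linear_combination g.p2 * h4
  · linear_combination g.c1 * h4
  · linear_combination g.c2 * h28
  · linear_combination g.z * h31

theorem inl_pow_nine (hK : Fintype.card K = 81) (n : N7 K) :
    (SemidirectProduct.inl n : H hK) ^ 9 = 1 := by
  rw [← map_pow, pow_nine, map_one]

/-- the cover of `H` by the exponents 5, 9, 12 -/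
theorem h_cover (hK : Fintype.card K = 81) (h : H hK) : h ^ 5 = 1 ∨ h ^ 9 = 1 ∨ h ^ 12 = 1 := by
  haveI : Finite (N7 K) := finite_N7
  obtain ⟨n, q⟩ := h
  obtain ⟨τ, hτQ⟩ := q
  obtain ⟨ξ, i, hξ, hτ⟩ := hτQ
  have hτ' : ∀ g, τ g = Tm ξ (i % 4) g := fun g => by rw [hτ, Tm_mod_four hK]
  have hlt : i % 4 < 4 := Nat.mod_lt _ (by norm_num)
  set r := i % 4 with hr
  interval_cases r
  · -- `τ = Tm ξ 0`
    by_cases hξ1 : ξ = 1
    · right; left
      have hτ1 : τ = 1 := by
        apply MulEquiv.ext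
        intro g
        rw [hτ', hξ1, Tm_one_zero]; rfl
      have : (⟨n, ⟨τ, ⟨ξ, i, hξ, hτ⟩⟩⟩ : H hK) = SemidirectProduct.inl n := by
        apply SemidirectProduct.ext
        · rfl
        · apply Subtype.ext
          exact hτ1
      rw [this]
      exact inl_pow_nine hK n
    · left
      apply semi_pow_five
      · apply Subtype.ext
        rw [SubgroupClass.coe_pow, Subgroup.coe_one]
        apply MulEquiv.ext
        intro g
        show (τ ^ 5) g = g
        have : (τ ^ 5) g = τ (τ (τ (τ (τ g)))) := rfl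
        rw [this, hτ', hτ', hτ', hτ', hτ']
        exact Tm_zero_five ξ hξ g
      · intro x hx
        have hx1 : τ x = x := hx
        rw [hτ'] at hx1
        exact fix_five ξ hξ hξ1 x hx1
  · -- `τ = Tm ξ 1`
    right; right
    have hξ2 : (ξ * fr K 1 ξ) ^ 5 = 1 := by
      rw [mul_pow, ← map_pow, hξ, map_one, mul_one]
    have hsq : ∀ g, τ (τ g) = Tm (ξ * fr K 1 ξ) 2 g := by
      intro g
      rw [hτ', hτ', Tm_comp]
    apply semi_pow_twelve _ pow_nine
    · apply Subtype.ext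
      rw [SubgroupClass.coe_pow, Subgroup.coe_one]
      apply MulEquiv.ext
      intro g
      show (τ ^ 4) g = g
      have : (τ ^ 4) g = τ (τ (τ (τ g))) := rfl
      rw [this, hsq, hsq]
      exact Tm_two_two hK _ hξ2 g
    · intro x hx
      have hx1 : τ (τ x) = x := hx
      rw [hsq] at hx1
      exact fix_two _ hξ2 x hx1
  · -- `τ = Tm ξ 2`
    right; right
    have h6 : (⟨n, ⟨τ, ⟨ξ, i, hξ, hτ⟩⟩⟩ : H hK) ^ 6 = 1 := by
      apply semi_pow_six _ pow_nine
      · apply Subtype.ext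
        rw [SubgroupClass.coe_pow, Subgroup.coe_one]
        apply MulEquiv.ext
        intro g
        show (τ ^ 2) g = g
        have : (τ ^ 2) g = τ (τ g) := rfl
        rw [this, hτ', hτ']
        exact Tm_two_two hK ξ hξ g
      · intro x hx
        have hx1 : τ x = x := hx
        rw [hτ'] at hx1
        exact fix_two ξ hξ x hx1
    rw [show 12 = 6 * 2 by norm_num, pow_mul, h6, one_pow]
  · -- `τ = Tm ξ 3`
    right; right
    have hξ2 : (ξ * fr K 3 ξ) ^ 5 = 1 := by
      rw [mul_pow, ← map_pow, hξ, map_one, mul_one]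
    have hsq : ∀ g, τ (τ g) = Tm (ξ * fr K 3 ξ) 2 g := by
      intro g
      rw [hτ', hτ', Tm_comp, show 3 + 3 = 2 + 4 by norm_num, Tm_add_four hK]
    apply semi_pow_twelve _ pow_nine
    · apply Subtype.ext
      rw [SubgroupClass.coe_pow, Subgroup.coe_one]
      apply MulEquiv.ext
      intro g
      show (τ ^ 4) g = g
      have : (τ ^ 4) g = τ (τ (τ (τ g))) := rfl
      rw [this, hsq, hsq]
      exact Tm_two_two hK _ hξ2 g
    · intro x hx
      have hx1 : τ (τ x) = x := hx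
      rw [hsq] at hx1
      exact fix_two _ hξ2 x hx1

theorem Tm_one_one_sq (g : N7 K) : Tm (1 : K) 1 (Tm (1 : K) 1 g) = Tm (1 : K) 2 g := by
  rw [Tm_comp, map_one, mul_one]

/-- the witnesses of order 5, 9, 12 -/
theorem h_ex (hK : Fintype.card K = 81) :
    (∃ x : H hK, orderOf x = 5) ∧ (∃ x : H hK, orderOf x = 9) ∧ (∃ x : H hK, orderOf x = 12) := by
  obtain ⟨⟨ζ, hζ5, hζ1⟩, ⟨a0, ha0⟩⟩ := exists_zeta hK
  refine ⟨?_, ?_, ?_⟩
  · -- order 5
    let q5 : Q hK := ⟨Te hK ζ hζ5 0, Te_mem hK ζ hζ5 0⟩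
    refine ⟨SemidirectProduct.inr q5, ?_⟩
    rw [orderOf_injective _ SemidirectProduct.inr_injective]
    haveI : Fact (Nat.Prime 5) := ⟨by norm_num⟩
    apply orderOf_eq_prime
    · apply Subtype.ext
      rw [SubgroupClass.coe_pow, Subgroup.coe_one]
      apply MulEquiv.ext
      intro g
      show ((Te hK ζ hζ5 0) ^ 5) g = g
      have : ((Te hK ζ hζ5 0) ^ 5) g = Te hK ζ hζ5 0 (Te hK ζ hζ5 0 (Te hK ζ hζ5 0
          (Te hK ζ hζ5 0 (Te hK ζ hζ5 0 g)))) := rfl
      rw [this]
      simp only [Te_apply]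
      exact Tm_zero_five ζ hζ5 g
    · intro h
      have h1 := congrArg Subtype.val h
      have h2 := congrArg (fun τ : MulAut (N7 K) => (τ ⟨1, 0, 0, 0, 0, 0, 0⟩).a) h1
      simp only [Subgroup.coe_one, MulAut.one_apply] at h2
      have h3 : ((Te hK ζ hζ5 0) ⟨1, 0, 0, 0, 0, 0, 0⟩).a = ζ := by
        rw [Te_apply, Tm_a, fr_apply]; simp
      exact hζ1 (h3.symm.trans h2)
  · -- order 9
    obtain ⟨g, hg⟩ := exists_orderOf_nine hK
    refine ⟨SemidirectProduct.inl g, ?_⟩
    rw [orderOf_injective _ SemidirectProduct.inl_injective, hg]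
  · -- order 12
    obtain ⟨g3, hfix, ho3⟩ := exists_fixed_three (K := K)
    let q4 : Q hK := ⟨Te hK 1 (one_pow 5) 1, Te_mem hK 1 (one_pow 5) 1⟩
    have hq4 : orderOf q4 = 2 ^ (1 + 1) := by
      haveI : Fact (Nat.Prime 2) := ⟨Nat.prime_two⟩
      apply orderOf_eq_prime_pow
      · intro h
        have h1 := congrArg Subtype.val h
        have h2 := congrArg (fun τ : MulAut (N7 K) => (τ ⟨a0, 0, 0, 0, 0, 0, 0⟩).a) h1
        simp only [Subgroup.coe_one, MulAut.one_apply] at h2
        have h3 : ((q4 ^ 2 ^ 1 : Q hK) : MulAut (N7 K)) ⟨a0, 0, 0, 0, 0, 0, 0⟩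
            = Tm (1 : K) 2 ⟨a0, 0, 0, 0, 0, 0, 0⟩ := by
          rw [pow_one, SubgroupClass.coe_pow]
          show Te hK 1 (one_pow 5) 1 (Te hK 1 (one_pow 5) 1 _) = _
          rw [Te_apply, Te_apply, Tm_one_one_sq]
        rw [h3, Tm_a, fr_apply, one_mul] at h2
        exact ha0 (by simpa using h2)
      · apply Subtype.ext
        rw [SubgroupClass.coe_pow, Subgroup.coe_one]
        apply MulEquiv.ext
        intro g
        show ((Te hK 1 (one_pow 5) 1) ^ 2 ^ (1 + 1)) g = g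
        have : ((Te hK 1 (one_pow 5) 1) ^ 2 ^ (1 + 1)) g = Te hK 1 (one_pow 5) 1 (Te hK 1 (one_pow 5) 1
            (Te hK 1 (one_pow 5) 1 (Te hK 1 (one_pow 5) 1 g))) := rfl
        rw [this]
        simp only [Te_apply]
        rw [Tm_one_one_sq, Tm_one_one_sq]
        exact Tm_two_two hK 1 (one_pow 5) g
    refine ⟨SemidirectProduct.inl g3 * SemidirectProduct.inr q4, ?_⟩
    have hcomm : Commute (SemidirectProduct.inl g3 : H hK) (SemidirectProduct.inr q4) := by
      have h1 := SemidirectProduct.inl_aut (φ := (Q hK).subtype) q4 g3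
      have h2 : (Q hK).subtype q4 g3 = g3 := hfix
      rw [h2] at h1
      show SemidirectProduct.inl g3 * SemidirectProduct.inr q4 = SemidirectProduct.inr q4 * SemidirectProduct.inl g3
      conv_lhs => rw [h1]
      rw [mul_assoc, ← map_mul, inv_mul_cancel, map_one, mul_one]
    rw [hcomm.orderOf_mul_eq_mul_orderOf_of_coprime]
    · rw [orderOf_injective _ SemidirectProduct.inl_injective,
        orderOf_injective _ SemidirectProduct.inr_injective, ho3, hq4]
      norm_num
    · rw [orderOf_injective _ SemidirectProduct.inl_injective,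
        orderOf_injective _ SemidirectProduct.inr_injective, ho3, hq4]
      decide

theorem h_solvable (hK : Fintype.card K = 81) : Group.IsSolvable (H hK) := by
  have hfin : Finite (N7 K) := finite_N7
  have hQ : Group.IsSolvable (Q hK) := Q_solvable hK
  have hN : Group.IsSolvable (N7 K) := by
    have hpr : Fact (Nat.Prime 3) := ⟨Nat.prime_three⟩
    have hp : IsPGroup 3 (N7 K) := fun g => ⟨2, by
      have := pow_nine g
      norm_num
      exact this⟩
    have hnil : Group.IsNilpotent (N7 K) := hp.isNilpotent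
    exact IsNilpotent.to_isSolvable
  exact Group.isSolvable_of_ker_le_range (SemidirectProduct.inl : N7 K →* H hK)
    SemidirectProduct.rightHom (by rw [SemidirectProduct.range_inl_eq_ker_rightHom])

theorem h_finite (hK : Fintype.card K = 81) : Finite (H hK) := by
  haveI : Finite (N7 K) := finite_N7
  exact Finite.of_equiv _ SemidirectProduct.equivProd.symm

end ASM

/-- the main theorem -/
theorem main {F : Type*} [Field F] [Fintype F] (hF : Fintype.card F = 3) :
    ∃ (H : Type) (_ : Group H) (_ : Fintype H), Group.IsSolvable H ∧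
      Set.range (orderOf : H → ℕ) = Set.range (orderOf : Cfsg.PSp 2 F → ℕ) := by
  haveI : Fact (Nat.Prime 3) := ⟨Nat.prime_three⟩
  letI : Fintype (GaloisField 3 4) := Fintype.ofFinite _
  have hK : Fintype.card (GaloisField 3 4) = 81 := by
    rw [← Nat.card_eq_fintype_card, GaloisField.card 3 4 (by norm_num)]; norm_num
  haveI := ASM.h_finite hK
  refine ⟨H hK, inferInstance, Fintype.ofFinite _, ASM.h_solvable hK, ?_⟩
  obtain ⟨e5, e9, e12⟩ := ASM.h_ex hK
  rw [spec_of_cover (ASM.h_cover hK) e5 e9 e12,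
    spec_of_cover (psp_cover hF) (psp_five hF) (psp_nine hF) (psp_twelve hF)]

end Cfsg.Agent.S3439P
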